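import Cfsg.Agent.Lib.Icosian.PermData
import Cfsg.Agent.Lib.Compute.Simple
import Cfsg.Agent.Lib.JankoTwoModel.Data

/-!
Kernel checks for a reflection centraliser in the Hall-Janko group on 315 lines.
-/

set_option autoImplicit false
set_option maxRecDepth 100000

namespace Cfsg.Agent.Lib.JankoTwoModel

open Cfsg.Agent.Lib.Compute Cfsg.Agent.Lib.Icosian

/-- The operations. -/
noncomputable abbrev O : Ops := permOps 9 315

/-- The first level of the chain. -/
def lev : Lvl :=
  ⟨0, permChainOrb0, (permChain.getD 0 ⟨0, .leaf, [], []⟩).T, (permChain.getD 0 ⟨0, .leaf, [], []⟩).W⟩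

/-- The chain of the line stabiliser. -/
def stabChain : List Lvl := permChain.drop 1

theorem permChain_cons : permChain = lev :: stabChain := rfl

/-- Evaluate all members of a list. -/
noncomputable def forceList : List ℕ → (List ℕ → Bool) → Bool
  | [], k => k []
  | a :: l, k => forceNat a fun v => forceList l fun vs => k (v :: vs)

theorem forceList_eq : ∀ (l : List ℕ) (k : List ℕ → Bool), forceList l k = k l
  | [], _ => rfl
  | a :: l, k => by simp [forceList, forceNat_eq, forceList_eq l]

/-- No repetitions. -/
noncomputable def distinctB : List ℕ → Bool
  | [] => true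
  | a :: l => (l.all fun b => !Nat.beq a b) && distinctB l

theorem nodup_of_distinctB : ∀ {l : List ℕ}, distinctB l = true → l.Nodup
  | [], _ => List.nodup_nil
  | a :: l, h => by
    simp only [distinctB, Bool.and_eq_true, List.all_eq_true, Bool.not_eq_true'] at h
    refine List.nodup_cons.mpr ⟨fun hm => ?_, nodup_of_distinctB h.2⟩
    have := h.1 a hm
    rw [Nat.beq_refl] at this
    exact Bool.noConfusion this

/-- The conjugates of the involution by the transversal. -/
noncomputable def classList : List ℕ := lev.orb.toList.map fun e => O.mul e.v (O.mul zCode e.u)

theorem class_distinct : forceList classList distinctB = true := by decide +kernel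

theorem stab_size : chainSize stabChain = 1920 := by decide +kernel

theorem z_pair : [(zCode, zCode)].all (pairCheck 9 315 stabChain) = true := by decide +kernel

theorem z_ne : Nat.beq zCode O.one = false ∧ Nat.beq (O.mul zCode zCode) O.one = true := by
  decide +kernel

theorem z_central : (lev.T.all fun t => Nat.beq (O.mul t.1 zCode) (O.mul zCode t.1)) = true := by
  decide +kernel

theorem q_pairs : qGens.all (pairCheck 9 315 stabChain) = true := by decide +kernel

theorem q_chain : chainCheck O qGens qChain = true ∧ chainSize qChain = 32 ∧
    sift O qChain zCode = true := by decide +kernel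

theorem q_normal : (lev.T.all fun t => qGens.all fun q =>
    sift O qChain (O.mul t.1 (O.mul q.1 t.2))) = true := by decide +kernel

/-- Square and commutators with everything lie in the centre. -/
noncomputable def extraCheck (els : List ℕ) : Bool :=
  els.all fun a => (forceNat (O.mul a a) fun s => Nat.beq s O.one || Nat.beq s zCode) &&
    (els.all fun b => forceNat (O.mul a b) fun x => forceNat (O.mul b a) fun y =>
      Nat.beq x y || Nat.beq x (O.mul y zCode)) &&
    (Nat.beq a O.one || Nat.beq a zCode ||
      !(qGens.all fun q => Nat.beq (O.mul a q.1) (O.mul q.1 a)))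

theorem q_extra : forceList (elems O qChain) extraCheck = true := by decide +kernel

theorem q_self : ((elems O stabChain).all fun c => forceNat c fun c =>
    !(qGens.all fun q => Nat.beq (O.mul c q.1) (O.mul q.1 c)) || sift O qChain c) = true := by
  decide +kernel

theorem f_ok : (forceNat (pathEval O stabChain fPath).1 fun c =>
    !Nat.beq c O.one && Nat.beq (powC O c 5) O.one) = true := by decide +kernel

/-- The code of a conjugate of the involution in the extraspecial subgroup. -/
noncomputable def uCheck : Bool :=
  match permChainOrb0.find 1 with
  | none => false
  | some e => forceNat (O.mul e.v (O.mul zCode e.u)) fun c =>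
      !Nat.beq c zCode && sift O qChain c

theorem u_ok : uCheck = true := by decide +kernel

end Cfsg.Agent.Lib.JankoTwoModel
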