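import Cfsg.Agent.Lib.Icosian.Action
import Cfsg.Agent.Lib.JankoTwoModel.Checks
import Cfsg.Agent.Lib.JankoTwoType.FusionSimple

/-!
The centraliser of a reflection in the Hall-Janko group and simplicity of its 2-fusion system.
-/

set_option autoImplicit false
set_option maxRecDepth 100000
set_option linter.style.haveILetI false
set_option linter.unusedSimpArgs false

noncomputable section

namespace Cfsg.Agent.Lib.JankoTwoModel

open Cfsg.Agent.Lib.Compute Cfsg.Agent.Lib.Icosian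

/-- Permutations of the lines. -/
abbrev Pm : Type := Equiv.Perm (Fin 315)

/-- The group. -/
def J : Subgroup Pm := genGroup lineCoding permGens

/-- The line stabiliser. -/
def Cg : Subgroup Pm := genGroup lineCoding lev.T

/-- The extraspecial subgroup. -/
def Qg : Subgroup Pm := genGroup lineCoding qGens

theorem top_chain : chainCheck O permGens (lev :: stabChain) = true := permChain_cons ▸ chain_ok

theorem gensOK_T : GensOK lineCoding lev.T := gensOK_next lineCoding gensOK_lines top_chain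

theorem chain_T : chainCheck O lev.T stabChain = true :=
  (chainCheck_cons lineCoding gensOK_lines top_chain).2.2.2.2.2

theorem Cg_le : Cg ≤ J := genGroup_next_le lineCoding gensOK_lines top_chain

theorem q_ok : GensOK lineCoding qGens ∧ Qg ≤ Cg :=
  gensOK_of_pairCheck (Equiv.refl (Fin 315)) (by norm_num) gensOK_T chain_T q_pairs

theorem exists_zP : ∃ z ∈ Cg, lineCoding.enc z = zCode := by
  obtain ⟨hT, hle⟩ := gensOK_of_pairCheck (Equiv.refl (Fin 315)) (by norm_num) gensOK_T chain_T z_pair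
  obtain ⟨g, -, h1, -⟩ := hT (zCode, zCode) (List.mem_singleton.mpr rfl)
  exact ⟨g, hle (mem_genGroup_of_enc lineCoding (List.mem_singleton.mpr rfl) h1), h1⟩

/-- The involution. -/
def zP : Pm := exists_zP.choose

theorem zP_mem : zP ∈ Cg := exists_zP.choose_spec.1

theorem zP_enc : lineCoding.enc zP = zCode := exists_zP.choose_spec.2

theorem enc_mul {g h : Pm} {a b : ℕ} (ha : lineCoding.enc g = a) (hb : lineCoding.enc h = b) :
    lineCoding.enc (g * h) = O.mul a b := by rw [← ha, ← hb, lineCoding.mul_enc]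

theorem beq_iff {g h : Pm} {a b : ℕ} (ha : lineCoding.enc g = a) (hb : lineCoding.enc h = b) :
    Nat.beq a b = true ↔ g = h := by
  refine ⟨fun e => lineCoding.inj ?_, fun e => ?_⟩
  · rw [ha, hb]; exact Nat.eq_of_beq_eq_true e
  · rw [← ha, ← hb, e, Nat.beq_refl]

theorem beq_mul_iff {g h g' h' : Pm} {a b c d : ℕ} (ha : lineCoding.enc g = a)
    (hb : lineCoding.enc h = b) (hc : lineCoding.enc g' = c) (hd : lineCoding.enc h' = d) :
    Nat.beq (O.mul a b) (O.mul c d) = true ↔ g * h = g' * h' :=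
  beq_iff (enc_mul ha hb) (enc_mul hc hd)

theorem sift_Q {g : Pm} {c : ℕ} (hg : lineCoding.enc g = c) (h : sift O qChain c = true) : g ∈ Qg :=
  good_of_sift lineCoding q_ok.1 q_chain.1 (hg.symm ▸ h)

theorem zP_Q : zP ∈ Qg := sift_Q zP_enc q_chain.2.2

theorem zP_sq : zP * zP = 1 :=
  (beq_iff (enc_mul zP_enc zP_enc) lineCoding.one_enc).mp z_ne.2

theorem zP_ne : zP ≠ 1 := fun h => by
  have h1 := z_ne.1
  rw [(beq_iff zP_enc lineCoding.one_enc).mpr h] at h1
  exact Bool.noConfusion h1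

theorem Cg_central {g : Pm} (hg : g ∈ Cg) : g * zP = zP * g := by
  induction hg using Subgroup.closure_induction with
  | mem g hg =>
    obtain ⟨t, ht, hgt⟩ := hg
    exact (beq_mul_iff hgt zP_enc zP_enc hgt).mp (List.all_eq_true.mp z_central t ht)
  | one => simp
  | mul a b _ _ ha hb => rw [mul_assoc, hb, ← mul_assoc, ha, mul_assoc]
  | inv a _ ha => rw [eq_mul_inv_iff_mul_eq, mul_assoc, ← ha, inv_mul_cancel_left]

theorem card_Cg : Nat.card Cg = 1920 := by
  rw [Cg, card_genGroup lineCoding gensOK_T chain_T, stab_size]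

/-- The centraliser is the line stabiliser. -/
theorem mem_Cg {g : Pm} (hg : g ∈ J) (hc : g * zP = zP * g) : g ∈ Cg := by
  obtain ⟨e, he, t, ht, -, hmem⟩ := exists_entry lineCoding gensOK_lines top_chain hg
  obtain ⟨hent, -, hb, -, -, -⟩ := chainCheck_cons lineCoding gensOK_lines top_chain
  obtain ⟨e₀, hf, hu⟩ := hb
  obtain ⟨he₀, -⟩ := Tree.find_some hf
  obtain ⟨t', -, h1, h2⟩ := (hent e he).1
  simp only at h1 h2
  obtain rfl : t' = t := lineCoding.inj (h1.trans ht.symm)
  have h : t' * zP * t'⁻¹ = zP := by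
    have hs : t'⁻¹ * g * zP = zP * (t'⁻¹ * g) := Cg_central hmem
    calc t' * zP * t'⁻¹ = t' * (zP * (t'⁻¹ * g)) * g⁻¹ := by group
      _ = g * zP * g⁻¹ := by rw [← hs]; group
      _ = zP := by rw [hc, mul_inv_cancel_right]
  have hcode : O.mul e.v (O.mul zCode e.u) = O.mul e₀.v (O.mul zCode e₀.u) := by
    obtain ⟨t₀, -, k1, k2⟩ := (hent e₀ he₀).1
    simp only at k1 k2
    have ht₀ : t₀⁻¹ = 1 := lineCoding.inj (by rw [k2, hu, lineCoding.one_enc])
    rw [← enc_mul h1 (enc_mul zP_enc h2), ← enc_mul k1 (enc_mul zP_enc k2),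
      inv_eq_one.mp ht₀, ← mul_assoc, h]
    simp
  have hnd := nodup_of_distinctB (forceList_eq classList distinctB ▸ class_distinct)
  have hee := List.inj_on_of_nodup_map hnd he he₀ hcode
  subst hee
  have : t'⁻¹ = 1 := lineCoding.inj (by rw [h2, hu, lineCoding.one_enc])
  rw [this, one_mul] at hmem
  exact hmem

theorem Qg_norm {g x : Pm} (hg : g ∈ Cg) (hx : x ∈ Qg) : g * x * g⁻¹ ∈ Qg := by
  have hle : Cg ≤ Subgroup.normalizer (Qg : Set Pm) := by
    refine (Subgroup.closure_le _).2 ?_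
    rintro t ⟨p, hp, htp⟩
    obtain ⟨t', -, h1, h2⟩ := gensOK_T p hp
    obtain rfl : t' = t := lineCoding.inj (h1.trans htp.symm)
    have hsub : Qg.map (MulAut.conj t').toMonoidHom ≤ Qg := by
      refine Subgroup.map_le_iff_le_comap.mpr ((Subgroup.closure_le _).2 ?_)
      rintro y ⟨q, hq, hyq⟩
      show t' * y * t'⁻¹ ∈ Qg
      rw [mul_assoc]
      exact sift_Q (enc_mul h1 (enc_mul hyq h2))
        (List.all_eq_true.mp (List.all_eq_true.mp q_normal p hp) q hq)
    have heq := Subgroup.eq_of_le_of_card_ge hsub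
      (Subgroup.card_map_of_injective (MulEquiv.injective (MulAut.conj t'))).ge
    refine Subgroup.mem_normalizer_iff.mpr fun y => ⟨fun hy => hsub ⟨y, hy, rfl⟩, fun hy => ?_⟩
    rw [← heq] at hy
    obtain ⟨w, hw, e⟩ := hy
    exact (MulAut.conj t').injective e ▸ hw
  exact (Subgroup.mem_normalizer_iff.mp (hle hg) x).mp hx

theorem Qg_cases {x : Pm} (hx : x ∈ Qg) :
    (x * x = 1 ∨ x * x = zP) ∧ (∀ y ∈ Qg, x * y = y * x ∨ x * y = y * x * zP) ∧
      ((∀ y ∈ Qg, x * y = y * x) → x = 1 ∨ x = zP) := by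
  have h := q_extra
  rw [forceList_eq] at h
  have h' := List.all_eq_true.mp h _ (enc_mem_elems lineCoding q_ok.1 q_chain.1 hx)
  simp only [forceNat_eq, Bool.and_eq_true, Bool.or_eq_true, List.all_eq_true] at h'
  obtain ⟨⟨h1, h2⟩, h3⟩ := h'
  refine ⟨h1.imp (beq_iff (enc_mul rfl rfl) lineCoding.one_enc).mp (beq_iff (enc_mul rfl rfl) zP_enc).mp,
    fun y hy => (h2 _ (enc_mem_elems lineCoding q_ok.1 q_chain.1 hy)).imp
      (beq_mul_iff rfl rfl rfl rfl).mp (beq_iff (enc_mul rfl rfl) (enc_mul (enc_mul rfl rfl) zP_enc)).mp,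
    fun hc => ?_⟩
  rcases h3 with (h3 | h3) | h3
  · exact Or.inl ((beq_iff rfl lineCoding.one_enc).mp h3)
  · exact Or.inr ((beq_iff rfl zP_enc).mp h3)
  · exfalso
    rw [Bool.not_eq_true', List.all_eq_false] at h3
    obtain ⟨q, hq, hn⟩ := h3
    obtain ⟨y, -, hy1, -⟩ := q_ok.1 q hq
    exact hn ((beq_mul_iff rfl hy1 hy1 rfl).mpr (hc y (mem_genGroup_of_enc lineCoding hq hy1)))

theorem Qg_self {c : Pm} (hc : c ∈ Cg) (h : ∀ y ∈ Qg, c * y = y * c) : c ∈ Qg := by
  have h' := List.all_eq_true.mp q_self _ (enc_mem_elems lineCoding gensOK_T chain_T hc)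
  simp only [forceNat_eq, Bool.or_eq_true] at h'
  rcases h' with h' | h'
  · exfalso
    rw [Bool.not_eq_true', List.all_eq_false] at h'
    obtain ⟨q, hq, hn⟩ := h'
    obtain ⟨y, -, hy1, -⟩ := q_ok.1 q hq
    exact hn ((beq_mul_iff rfl hy1 hy1 rfl).mpr (h y (mem_genGroup_of_enc lineCoding hq hy1)))
  · exact sift_Q rfl h'

theorem exists_u : ∃ g ∈ J, g * zP * g⁻¹ ∈ Qg ∧ g * zP * g⁻¹ ≠ zP := by
  have h := u_ok
  rw [uCheck] at h
  split at h
  · exact Bool.noConfusion h
  next e he =>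
    simp only [forceNat_eq, Bool.and_eq_true, Bool.not_eq_true'] at h
    obtain ⟨g, hg, h1, h2⟩ :=
      ((chainCheck_cons lineCoding gensOK_lines top_chain).1 e (Tree.find_some he).1).1
    simp only at h1 h2
    have hcode : lineCoding.enc (g * zP * g⁻¹) = O.mul e.v (O.mul zCode e.u) := by
      rw [mul_assoc]; exact enc_mul h1 (enc_mul zP_enc h2)
    refine ⟨g, hg, sift_Q hcode h.2, fun e' => ?_⟩
    have h3 := h.1
    rw [(beq_iff hcode zP_enc).mpr e'] at h3
    exact Bool.noConfusion h3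

theorem exists_f : ∃ f ∈ Cg, orderOf f = 5 := by
  haveI : Fact (Nat.Prime 5) := ⟨by norm_num⟩
  obtain ⟨f, hf, h1, -⟩ := pairOK_pathEval lineCoding gensOK_T chain_T fPath
  have h := f_ok
  rw [forceNat_eq, Bool.and_eq_true, ← h1, powC_enc] at h
  refine ⟨f, hf, orderOf_eq_prime ((beq_iff rfl lineCoding.one_enc).mp h.2) fun e => ?_⟩
  have h3 := h.1
  rw [(beq_iff rfl lineCoding.one_enc).mpr e] at h3
  exact Bool.noConfusion h3

/-- The local structure of the permutation model. -/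
def preJ : Cfsg.Agent.Lib.JankoTwoType.Pre ↥J where
  z := ⟨zP, Cg_le zP_mem⟩
  Q := Qg.subgroupOf J
  hz := by
    rw [Subgroup.orderOf_mk]
    haveI : Fact (Nat.Prime 2) := ⟨Nat.prime_two⟩
    exact orderOf_eq_prime (by rw [pow_two, zP_sq]) zP_ne
  hzQ := zP_Q
  le := fun x hx => Subtype.ext (Cg_central (q_ok.2 hx))
  norm := fun c hc x hx => Qg_norm (mem_Cg c.2 (congrArg Subtype.val hc.eq)) hx
  card := by
    rw [Nat.card_congr (Subgroup.subgroupOfEquivOfLe (q_ok.2.trans Cg_le)).toEquiv, Qg,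
      card_genGroup lineCoding q_ok.1 q_chain.1, q_chain.2.1]
  center := fun x hx h => ((Qg_cases hx).2.2 fun y hy =>
    congrArg Subtype.val (h ⟨y, Cg_le (q_ok.2 hy)⟩ hy).eq).imp
      (fun e => Subtype.ext e) (fun e => Subtype.ext e)
  sq := fun x hx => (Qg_cases hx).1.imp (fun e => Subtype.ext e) (fun e => Subtype.ext e)
  comm := fun x hx y hy => ((Qg_cases hx).2.1 y hy).imp (fun e => Subtype.ext e) (fun e => Subtype.ext e)
  self := fun c hc h => Qg_self (mem_Cg c.2 (congrArg Subtype.val hc.eq)) fun y hy =>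
    congrArg Subtype.val (h ⟨y, Cg_le (q_ok.2 hy)⟩ hy).eq
  u0 := ⟨exists_u.choose * zP * exists_u.choose⁻¹, Cg_le (q_ok.2 exists_u.choose_spec.2.1)⟩
  hu0 := exists_u.choose_spec.2.1
  hu0z := fun e => exists_u.choose_spec.2.2 (congrArg Subtype.val e)
  hu0i := Subtype.ext (by
    show exists_u.choose * zP * exists_u.choose⁻¹ * (exists_u.choose * zP * exists_u.choose⁻¹) = 1
    rw [conj_mul, zP_sq, mul_one, mul_inv_cancel])
  hu01 := fun e => zP_ne (conj_eq_one_iff.mp (congrArg Subtype.val e))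
  f := ⟨exists_f.choose, Cg_le exists_f.choose_spec.1⟩
  hf := by rw [Subgroup.orderOf_mk]; exact exists_f.choose_spec.2
  hfz := Subtype.ext (Cg_central exists_f.choose_spec.1)

theorem conj_u0 : IsConj preJ.z preJ.u0 :=
  isConj_iff.mpr ⟨⟨exists_u.choose, exists_u.choose_spec.1⟩, rfl⟩

theorem card_centralizer : Nat.card preJ.Cz = 1920 := by
  rw [← card_Cg, ← Nat.card_congr (Subgroup.subgroupOfEquivOfLe Cg_le).toEquiv]
  refine congrArg (fun H : Subgroup ↥J => Nat.card H) (Subgroup.ext fun g => ?_)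
  rw [preJ.mem_Cz, Subgroup.mem_subgroupOf]
  exact ⟨fun h => mem_Cg g.2 (congrArg Subtype.val h.eq), fun h => Subtype.ext (Cg_central h)⟩

/-- The isomorphism with the model. -/
def equivJ : ↥J ≃* Cfsg.Spor.J2 := (j2Equiv.trans (MulEquiv.subgroupCongr lineHom_range)).symm

theorem isSimple_fusion {G : Type*} [Group G] [Finite G] (e : G ≃* Cfsg.Spor.J2) (S : Sylow 2 G) :
    (Cfsg.groupFusionSystem (S : Subgroup G)).IsSimple 2 := by
  set f := equivJ.trans e.symm
  have hc : Nat.card (preJ.mapEquiv f).Cz = 1920 := by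
    rw [← card_centralizer]
    refine (Nat.card_congr (Equiv.subtypeEquiv f.toEquiv fun x => ?_)).symm
    rw [preJ.mem_Cz, (preJ.mapEquiv f).mem_Cz]
    exact ⟨fun h => h.map f.toMonoidHom, fun h => by simpa [Cfsg.Agent.Lib.JankoTwoType.Pre.mapEquiv] using h.map f.symm.toMonoidHom⟩
  refine (preJ.mapEquiv f).isSimple_groupFusion' hc
    (MonoidHom.map_isConj f.toMonoidHom conj_u0) ?_ S
  have h := (preJ.mapEquiv f).Cz.card_mul_index
  rw [hc, Nat.card_congr e.toEquiv, card_J2] at h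
  omega

end Cfsg.Agent.Lib.JankoTwoModel
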