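import Cfsg.Agent.Lib.JankoTwoModel.TwoClasses
import Cfsg.Agent.Lib.JankoTwoType.Gens
import Cfsg.Agent.Lib.CosetTable.Chain
import Cfsg.Agent.Lib.CosetTable.J2LevelA.Cover
import Cfsg.Agent.Lib.CosetTable.J2LevelC.Cover
import Cfsg.Agent.Lib.CosetTable.J2LevelX.Cover
import Cfsg.Agent.Lib.Icosian.Simplicity

/-!
Uniqueness of the Hall-Janko group: every group of Hall–Janko type is a quotient of a presented
group of order less than `604800²`, which has a unique non-abelian simple quotient of that order.
-/

set_option autoImplicit false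
set_option linter.style.haveILetI false

noncomputable section

namespace Cfsg.Agent.Lib.JankoTwoModel

open Cfsg.Agent.Lib.CosetTable

/-- The certificate of the last level, which lists all relators. -/
abbrev topCert : Cert := J2LevelX.cert

/-- The free generators by number. -/
def freeGen (i : ℕ) : FreeGroup (Fin 6) := if h : i < 6 then FreeGroup.of ⟨i, h⟩ else 1

/-- The relators as elements of the free group. -/
def freeRels : Set (FreeGroup (Fin 6)) := {x | ∃ w ∈ topCert.rels, eval freeGen w = x}

/-- The presented group. -/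
abbrev Pres6 : Type := PresentedGroup freeRels

/-- Its generators by number. -/
def presGen (i : ℕ) : Pres6 := PresentedGroup.mk freeRels (freeGen i)

theorem hom_eval {A B : Type*} [Group A] [Group B] (φ : A →* B) (f : ℕ → A) :
    ∀ w : List ℕ, φ (eval f w) = eval (fun i => φ (f i)) w
  | [] => by simp [eval]
  | a :: w => by simp [eval, hom_eval φ f w]

theorem top_rels_ok : allL (fun w => Cfsg.Agent.Lib.JankoTwoType.Relations.rels.contains w ||
    ((List.range 6).map fun g => [g, g]).contains w) topCert.rels = true := by decide +kernel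

theorem top_invol_ok : allL (fun g => topCert.rels.contains [g, g]) (List.range 6) = true := by
  decide +kernel

theorem top_k : topCert.k = 6 := rfl

theorem pres_rel {w : List ℕ} (hw : w ∈ topCert.rels) : eval presGen w = 1 := by
  rw [show presGen = fun i => PresentedGroup.mk freeRels (freeGen i) from rfl, ← hom_eval]
  exact PresentedGroup.one_of_mem ⟨w, hw, rfl⟩

theorem pres_invol {g : ℕ} (hg : g < 6) : presGen g * presGen g = 1 := by
  have h := pres_rel (List.contains_iff_mem.mp (allL_spec top_invol_ok g (List.mem_range.mpr hg)))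
  simpa [eval] using h

theorem pres_model : Model presGen topCert := by
  refine ⟨J2LevelX.words_ok, fun g hg => pres_invol (top_k ▸ hg), fun w hw => pres_rel hw, ?_⟩
  rw [eq_top_iff, ← PresentedGroup.closure_range_of]
  refine Subgroup.closure_mono ?_
  rintro _ ⟨x, rfl⟩
  exact ⟨x, x.2, by simp [presGen, freeGen, PresentedGroup.of]⟩

theorem pres_card : Finite Pres6 ∧ Nat.card Pres6 ≤ 36288000 := by
  have M := pres_model
  have h0 := orderLE_step M [0, 1, 2] (by decide +kernel) J2LevelA.cover (orderLE_nil _)
  have h1 := orderLE_step M [0, 1, 2, 3, 5] (by decide +kernel) J2LevelC.cover h0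
  have h2 := orderLE_step M (List.range 6) (by decide +kernel) J2LevelX.cover h1
  exact finite_card_top M h2

/-- A group of Hall–Janko type is a quotient of the presented group. -/
theorem exists_surj {G : Type*} [Group G] [Finite G] (H : Cfsg.Agent.Lib.JankoTwoType.Hyp G) :
    ∃ φ : Pres6 →* G, Function.Surjective φ := by
  obtain ⟨F, h2, hrel, hgen, -⟩ := H.exists_gens
  let F' : Fin 6 → G := fun i => F i
  have hlift : ∀ i, i < 6 → FreeGroup.lift F' (freeGen i) = F i := fun i hi => by
    simp [freeGen, hi, F']
  have hr : ∀ r ∈ freeRels, FreeGroup.lift F' r = 1 := by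
    rintro _ ⟨w, hw, rfl⟩
    rw [hom_eval]
    have hlt := pres_model.rels_lt w hw
    have he : ∀ v : List ℕ, (∀ a ∈ v, a < 6) →
        eval (fun i => FreeGroup.lift F' (freeGen i)) v = eval F v := by
      intro v
      induction v with
      | nil => intro _; rfl
      | cons a v ih =>
        intro hv
        simp only [eval, ih fun b hb => hv b (List.mem_cons_of_mem _ hb), hlift a (hv a (by simp))]
    rw [he w hlt]
    have h := allL_spec top_rels_ok w hw
    simp only [Bool.or_eq_true, List.contains_iff_mem, List.mem_map, List.mem_range] at h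
    rcases h with h | ⟨g, hg, rfl⟩
    · exact hrel w h
    · simpa [eval] using h2 g hg
  refine ⟨PresentedGroup.toGroup hr, ?_⟩
  rw [← MonoidHom.range_eq_top, eq_top_iff, ← hgen, Subgroup.closure_le]
  rintro _ ⟨i, hi, rfl⟩
  exact ⟨presGen i, by
    rw [← hlift i hi, presGen]
    rfl⟩

/-- Every group of Hall–Janko type is isomorphic to the Hall-Janko group. -/
theorem isoJ2_of_hyp {G : Type*} [Group G] [Finite G] (H : Cfsg.Agent.Lib.JankoTwoType.Hyp G) :
    Cfsg.Spor.IsoJ2 G := by
  obtain ⟨hfin, hcard⟩ := pres_card
  obtain ⟨φ, hφ⟩ := exists_surj H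
  obtain ⟨ψ, hψ⟩ := exists_surj hypJ
  haveI : IsSimpleGroup ↥J :=
    (MulEquiv.isSimpleGroup_congr equivJ).mpr Cfsg.Agent.Lib.Icosian.isSimpleGroup_J2
  have hJ := hypJ.card_G
  have e1 := φ.ker.card_mul_index
  have e2 := ψ.ker.card_mul_index
  rw [Subgroup.index_ker, MonoidHom.range_eq_top.mpr hφ, Subgroup.card_top, H.card_G] at e1
  rw [Subgroup.index_ker, MonoidHom.range_eq_top.mpr hψ, Subgroup.card_top, hJ] at e2
  have hle : φ.ker ≤ ψ.ker := by
    rw [← Subgroup.map_eq_bot_iff]
    refine ((MonoidHom.normal_ker φ).map ψ hψ).eq_bot_or_eq_top.resolve_right fun h => ?_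
    have hd := φ.ker.card_map_dvd ψ
    rw [h, Subgroup.card_top, hJ] at hd
    have hpos : 0 < Nat.card φ.ker := Nat.card_pos
    have := Nat.le_of_dvd hpos hd
    omega
  have heq : φ.ker = ψ.ker := Subgroup.eq_of_le_of_card_ge hle (by omega)
  exact ⟨(QuotientGroup.quotientKerEquivOfSurjective φ hφ).symm.trans
    ((QuotientGroup.quotientMulEquivOfEq heq).trans
      ((QuotientGroup.quotientKerEquivOfSurjective ψ hψ).trans equivJ))⟩

end Cfsg.Agent.Lib.JankoTwoModel
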