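import Cfsg.Agent.Lib.JankoTwoModel.Centralizer
import Cfsg.Agent.Lib.JankoTwoType.Classes

/-!
The permutation model of the Hall-Janko group has two classes of involutions.
-/

set_option autoImplicit false
set_option maxRecDepth 100000
set_option linter.style.haveILetI false

noncomputable section

namespace Cfsg.Agent.Lib.JankoTwoModel

open Cfsg.Agent.Lib.Compute Cfsg.Agent.Lib.Icosian

/-- An involution of the line stabiliser outside the class of the reflection. -/
def otherCheck (cls els : List ℕ) : Bool :=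
  els.any fun c => forceNat c fun c => Nat.beq (O.mul c c) O.one && !Nat.beq c O.one &&
    cls.all fun d => !Nat.beq c d

theorem other_ok : forceList classList (fun cls => otherCheck cls (elems O stabChain)) = true := by
  decide +kernel

theorem conj_mem_classList {g : Pm} (hg : g ∈ J) : lineCoding.enc (g * zP * g⁻¹) ∈ classList := by
  obtain ⟨e, he, t, ht, -, hmem⟩ := exists_entry lineCoding gensOK_lines top_chain hg
  obtain ⟨hent, -, -, -, -, -⟩ := chainCheck_cons lineCoding gensOK_lines top_chain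
  obtain ⟨t', -, h1, h2⟩ := (hent e he).1
  simp only at h1 h2
  obtain rfl : t' = t := lineCoding.inj (h1.trans ht.symm)
  have hs : t'⁻¹ * g * zP = zP * (t'⁻¹ * g) := Cg_central hmem
  have h : g * zP * g⁻¹ = t' * (zP * t'⁻¹) := by
    calc g * zP * g⁻¹ = t' * (t'⁻¹ * g * zP) * g⁻¹ := by group
      _ = t' * (zP * t'⁻¹) := by rw [hs]; group
  rw [h, enc_mul h1 (enc_mul zP_enc h2)]
  exact List.mem_map.mpr ⟨e, he, rfl⟩

theorem exists_two_classes : ∃ x y : ↥J, orderOf x = 2 ∧ orderOf y = 2 ∧ ¬ IsConj x y := by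
  have h := other_ok
  rw [forceList_eq, otherCheck, List.any_eq_true] at h
  obtain ⟨c, hc, h⟩ := h
  simp only [forceNat_eq, Bool.and_eq_true, Bool.not_eq_true', List.all_eq_true] at h
  obtain ⟨⟨h2, h1⟩, hcls⟩ := h
  obtain ⟨y, hy, hyc⟩ := exists_of_mem_elems lineCoding gensOK_T chain_T hc
  refine ⟨preJ.z, ⟨y, Cg_le hy⟩, preJ.hz, ?_, fun hconj => ?_⟩
  · haveI : Fact (Nat.Prime 2) := ⟨Nat.prime_two⟩
    rw [Subgroup.orderOf_mk]
    refine orderOf_eq_prime ?_ fun e => ?_
    · rw [pow_two]; exact (beq_iff (enc_mul hyc hyc) lineCoding.one_enc).mp h2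
    · rw [(beq_iff hyc lineCoding.one_enc).mpr e] at h1
      exact Bool.noConfusion h1
  · obtain ⟨g, hg⟩ := isConj_iff.mp hconj
    have hg' : (g : Pm) * zP * (g : Pm)⁻¹ = y := congrArg Subtype.val hg
    have := hcls _ (hg' ▸ conj_mem_classList g.2)
    rw [hyc, Nat.beq_refl] at this
    exact Bool.noConfusion this

/-- The model is of Hall–Janko type. -/
def hypJ : Cfsg.Agent.Lib.JankoTwoType.Hyp ↥J :=
  ⟨preJ, card_centralizer, conj_u0, exists_two_classes⟩

end Cfsg.Agent.Lib.JankoTwoModel
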